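import Cfsg.Agent.LocalEven.Goldschmidt.Setup
import Cfsg.Agent.InvolCalc.Dihedral
import Mathlib.GroupTheory.GroupAction.Primitive

/-! The point stabiliser of a primitive group with a suborbit of length three. -/

set_option autoImplicit false
set_option linter.style.haveILetI false

open scoped commutatorElement

namespace Cfsg.Lib.Goldschmidt

open Cfsg MulAction Cfsg.Lib.Amalgam

variable {X : Type*} [Group X] {M₁ M₂ : Subgroup X}

local notation "Γ" => cosetGraph M₁ M₂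
local notation "Vx" => CosetVertex M₁ M₂

theorem sq_fix {u v n : Vx} (huv : (Γ).Adj u v) (hn : (Γ).Adj u n)
    (h3 : (S u v).relIndex (G u) = 3) {g : X} (hg : g ∈ S u v) : (g * g) • n = n := by
  set K := (S u v).subgroupOf (G u)
  have hK : Nat.card (↥(G u) ⧸ K) = 3 := h3
  haveI : Finite (↥(G u) ⧸ K) := Nat.finite_of_card_ne_zero (by omega)
  obtain ⟨k, hk, rfl⟩ := transitive huv hn
  have hgu : g ∈ G u := hg.1
  have hgv : g • v = v := hg.2
  let pts : Fin 4 → ↥(G u) ⧸ K := ![((1 : ↥(G u)) : ↥(G u) ⧸ K), ((⟨k, hk⟩ : ↥(G u)) : ↥(G u) ⧸ K),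
    ((⟨g * k, mul_mem hgu hk⟩ : ↥(G u)) : ↥(G u) ⧸ K),
    ((⟨g * g * k, mul_mem (mul_mem hgu hgu) hk⟩ : ↥(G u)) : ↥(G u) ⧸ K)]
  have hni : ¬ Function.Injective pts := fun hi => by
    have := Nat.card_le_card_of_injective pts hi
    rw [Nat.card_fin, hK] at this
    omega
  have hsm : ∀ a c : ↥(G u), (a : ↥(G u) ⧸ K) = c → (a : X) • v = (c : X) • v := by
    intro a c e
    rw [QuotientGroup.eq] at e
    have := mem_stabilizer_iff.mp (Subgroup.mem_subgroupOf.mp e).2
    rw [Subgroup.coe_mul, Subgroup.coe_inv, mul_smul, inv_smul_eq_iff] at this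
    exact this.symm
  simp only [Function.Injective, not_forall] at hni
  obtain ⟨i, j, e, hij⟩ := hni
  rw [mul_smul]
  have key : k • v = v ∨ g • k • v = v ∨ g • g • k • v = v ∨ g • k • v = k • v ∨
      g • g • k • v = k • v ∨ g • g • k • v = g • k • v := by
    fin_cases i <;> fin_cases j <;> simp [pts] at e hij <;> have e' := hsm _ _ e <;>
      simp [mul_smul] at e' <;>
      first
        | exact Or.inl e' | exact Or.inl e'.symm
        | exact Or.inr (Or.inl e') | exact Or.inr (Or.inl e'.symm)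
        | exact Or.inr (Or.inr (Or.inl e')) | exact Or.inr (Or.inr (Or.inl e'.symm))
        | exact Or.inr (Or.inr (Or.inr (Or.inl e'))) | exact Or.inr (Or.inr (Or.inr (Or.inl e'.symm)))
        | exact Or.inr (Or.inr (Or.inr (Or.inr (Or.inl e')))) | exact Or.inr (Or.inr (Or.inr (Or.inr (Or.inl e'.symm))))
        | exact Or.inr (Or.inr (Or.inr (Or.inr (Or.inr e')))) | exact Or.inr (Or.inr (Or.inr (Or.inr (Or.inr e'.symm))))
  rcases key with e | e | e | e | e | e
  · rw [e, hgv, hgv]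
  · have : k • v = v := smul_left_cancel g (e.trans hgv.symm)
    rw [this, hgv, hgv]
  · have : k • v = v := smul_left_cancel g (smul_left_cancel g (e.trans (by rw [hgv, hgv])))
    rw [this, hgv, hgv]
  · rw [e, e]
  · exact e
  · have := smul_left_cancel g e
    rw [this, this]

/-- In a cubic pair the edge group is a two-group. -/
theorem isPGroup_edge (hgen : M₁ ⊔ M₂ = ⊤) (hcore : ∀ N : Subgroup X, N ≤ M₁ ⊓ M₂ → N.Normal → N = ⊥)
    [Finite M₁] (hc : Cubic M₁ M₂) : IsPGroup 2 ↥(M₁ ⊓ M₂) := by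
  haveI : Finite ↥(M₁ ⊓ M₂) :=
    Finite.of_injective (Subgroup.inclusion (inf_le_left : M₁ ⊓ M₂ ≤ M₁)) (Subgroup.inclusion_injective _)
  rcases Nat.eq_two_pow_or_exists_odd_prime_and_dvd (Nat.card ↥(M₁ ⊓ M₂)) with ⟨k, hk⟩ | ⟨r, hr, hrd, hodd⟩
  · exact IsPGroup.of_card hk
  exfalso
  haveI : Fact r.Prime := ⟨hr⟩
  obtain ⟨g, hg⟩ := exists_prime_orderOf_dvd_card' r hrd
  have hgr : orderOf (g : X) = r := by rw [Subgroup.orderOf_coe, hg]
  obtain ⟨j, hj⟩ := hodd
  have hhalf : (g : X) = ((g : X) * g) ^ (j + 1) := by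
    rw [← pow_two, ← pow_mul, show 2 * (j + 1) = r + 1 by omega, pow_succ, ← hgr, pow_orderOf_eq_one,
      one_mul]
  have hfix : ∀ u v n : Vx, (Γ).Adj u v → (Γ).Adj u n → (g : X) ∈ S u v → (g : X) • n = n := by
    intro u v n huv hn hgS
    have h2 : (g : X) * g ∈ G n := sq_fix huv hn (hc u v huv) hgS
    rw [hhalf]
    exact pow_mem h2 _
  set a0 : Vx := Sum.inl ((1 : X) : X ⧸ M₁)
  set b0 : Vx := Sum.inr ((1 : X) : X ⧸ M₂)
  have h0 : (g : X) ∈ S a0 b0 := by
    rw [S, edge_mk]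
    exact ⟨g, g.2, by simp⟩
  have hall : ∀ w : Vx, ∀ n, (Γ).Adj w n → (g : X) ∈ S w n := by
    refine forall_vertex hgen (fun w => ∀ n, (Γ).Adj w n → (g : X) ∈ S w n) a0
      (fun n hn => ⟨h0.1, hfix a0 b0 n (adj_inl_inr 1) hn h0⟩) ?_
    intro u v hu huv n hn
    have hv := hu v huv
    exact ⟨hv.2, hfix v u n huv.symm hn ⟨hv.2, hv.1⟩⟩
  have hbot := faithful hcore (T := Subgroup.zpowers (g : X)) fun w => by
    rw [Subgroup.zpowers_le]
    rcases w with a | a
    · induction a using QuotientGroup.induction_on with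
      | H x => exact (hall _ _ (adj_inl_inr x)).1
    · induction a using QuotientGroup.induction_on with
      | H x => exact (hall _ _ (adj_inl_inr x)).2
  rw [Subgroup.zpowers_eq_bot] at hbot
  rw [hbot, orderOf_one] at hgr
  exact hr.ne_one hgr.symm

/-- Vertex groups of a pair of conjugate subgroups with a common subgroup of index three. -/
theorem five_types (hgen : M₁ ⊔ M₂ = ⊤) (hcore : ∀ N : Subgroup X, N ≤ M₁ ⊓ M₂ → N.Normal → N = ⊥)
    [Finite M₁] [Finite M₂] (h31 : (M₁ ⊓ M₂).relIndex M₁ = 3) (h32 : (M₁ ⊓ M₂).relIndex M₂ = 3)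
    (g₀ : X) (hg₀ : M₂ = cs g₀ M₁) :
    Nonempty (M₁ ≃* Multiplicative (ZMod 3)) ∨ Nonempty (M₁ ≃* Equiv.Perm (Fin 3)) ∨
      Nonempty (M₁ ≃* DihedralGroup 6) ∨ Nonempty (M₁ ≃* Equiv.Perm (Fin 4)) ∨
      Nonempty (M₁ ≃* Equiv.Perm (Fin 4) × Multiplicative (ZMod 2)) := by
  classical
  haveI : Fact (Nat.Prime 2) := ⟨Nat.prime_two⟩
  have hc := cubic_of_three h31 h32
  have hTp := isPGroup_edge hgen hcore hc
  set T := M₁ ⊓ M₂ with hT
  have hT1 : T ≤ M₁ := inf_le_left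
  have hT2 : T ≤ M₂ := inf_le_right
  have hpg : ∀ M : Subgroup X, T ≤ M → IsPGroup 2 ↥(T.subgroupOf M) := fun M hle =>
    hTp.of_equiv (Subgroup.subgroupOfEquivOfLe hle).symm
  have hndvd : ∀ M : Subgroup X, T.relIndex M = 3 → ¬ 2 ∣ (T.subgroupOf M).index := fun M hM => by
    rw [show (T.subgroupOf M).index = T.relIndex M from rfl, hM]; norm_num
  let P1 : Sylow 2 ↥M₁ := (hpg M₁ hT1).toSylow (hndvd M₁ h31)
  let P2 : Sylow 2 ↥M₂ := (hpg M₂ hT2).toSylow (hndvd M₂ h32)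
  have hP1 : (P1 : Subgroup ↥M₁) = T.subgroupOf M₁ := IsPGroup.toSylow_coe _ _
  have hP2 : (P2 : Subgroup ↥M₂) = T.subgroupOf M₂ := IsPGroup.toSylow_coe _ _
  -- an element conjugating the first group to the second and fixing the common subgroup
  obtain ⟨g, hgM, hgT⟩ : ∃ g : X, cs g M₁ = M₂ ∧ cs g T = T := by
    have hT' : cs g₀ T ≤ M₂ := hg₀ ▸ Subgroup.map_mono hT1
    have hT'p : IsPGroup 2 ↥((cs g₀ T).subgroupOf M₂) :=
      (hTp.map _).of_equiv (Subgroup.subgroupOfEquivOfLe hT').symm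
    obtain ⟨P, hP⟩ := hT'p.exists_le_sylow
    obtain ⟨k, hk⟩ := exists_smul_eq ↥M₂ P P2
    refine ⟨(k : X) * g₀, ?_, ?_⟩
    · have hk' : g₀⁻¹ * (k : X) * g₀ ∈ M₁ := mem_cs.mp (hg₀.le k.2)
      ext x
      rw [mem_cs, show x ∈ M₂ ↔ g₀⁻¹ * x * g₀ ∈ M₁ from (SetLike.ext_iff.mp hg₀ x).trans mem_cs]
      rw [show ((k : X) * g₀)⁻¹ * x * ((k : X) * g₀) =
          (g₀⁻¹ * (k : X) * g₀)⁻¹ * (g₀⁻¹ * x * g₀) * (g₀⁻¹ * (k : X) * g₀) by simp [mul_assoc]]
      constructor
      · intro h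
        simpa [mul_assoc] using mul_mem (mul_mem hk' h) (inv_mem hk')
      · intro h; exact mul_mem (mul_mem (inv_mem hk') h) hk'
    · haveI : Finite ↥T := Finite.of_injective (Subgroup.inclusion hT1) (Subgroup.inclusion_injective _)
      have hle : cs ((k : X) * g₀) T ≤ T := by
        rintro x hx
        rw [mem_cs] at hx
        have h1 : (k : X)⁻¹ * x * (k : X) ∈ cs g₀ T := by
          rw [mem_cs]; simpa [mul_assoc] using hx
        have h2 : (⟨_, hT' h1⟩ : ↥M₂) ∈ (P : Subgroup ↥M₂) := hP (Subgroup.mem_subgroupOf.mpr h1)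
        have h3 : k * (⟨_, hT' h1⟩ : ↥M₂) * k⁻¹ ∈ (P2 : Subgroup ↥M₂) := by
          rw [← hk, Sylow.coe_subgroup_smul]
          exact ⟨_, h2, by simp⟩
        rw [hP2, Subgroup.mem_subgroupOf] at h3
        simpa [mul_assoc] using h3
      exact Subgroup.eq_of_le_of_card_ge hle
        (Nat.card_congr (T.equivMapOfInjective _ (MulAut.conj ((k : X) * g₀)).injective).toEquiv).le
  have hgn : g ∈ Subgroup.normalizer (T : Set X) := Subgroup.mem_normalizer_iff''.mpr fun x => by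
    rw [← mem_cs, hgT]
  have htop : ∀ N : Subgroup X, N ≤ T → M₁ ≤ Subgroup.normalizer (N : Set X) →
      M₂ ≤ Subgroup.normalizer (N : Set X) → N = ⊥ := fun N hN h1 h2 => hcore N hN
    (Subgroup.normalizer_eq_top_iff.mp (top_le_iff.mp (hgen ▸ sup_le h1 h2)))
  by_cases hnorm : M₁ ≤ Subgroup.normalizer (T : Set X)
  · refine Or.inl ?_
    have hT0 : T = ⊥ := htop T le_rfl hnorm (hgM ▸ fun x hx => by
      rw [mem_cs] at hx
      have := mul_mem (mul_mem hgn (hnorm hx)) (inv_mem hgn)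
      simpa [mul_assoc] using this)
    haveI : Fact (Nat.Prime 3) := ⟨Nat.prime_three⟩
    have hcard : Nat.card ↥M₁ = 3 := by
      rw [hT0, Subgroup.relIndex_bot_left] at h31
      exact h31
    exact ⟨mulEquivOfPrimeCardEq hcard (by simp)⟩
  refine Or.inr ?_
  -- the action on the three cosets
  set T' := T.subgroupOf M₁ with hT'
  have hQT : pCore 2 ↥M₁ ≤ T' := hP1 ▸ Cfsg.Lib.Coprime.pCore_le_sylow 2 P1
  have hcore' : T'.normalCore = pCore 2 ↥M₁ := by
    refine le_antisymm (le_sSup ⟨Subgroup.normalCore_normal _, ?_⟩) ?_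
    · exact (hpg M₁ hT1).to_le (Subgroup.normalCore_le _)
    · exact Subgroup.normal_le_normalCore.mpr hQT
  let φ : ↥M₁ →* Equiv.Perm (↥M₁ ⧸ T') := MulAction.toPermHom ↥M₁ (↥M₁ ⧸ T')
  have hker : φ.ker = pCore 2 ↥M₁ := by rw [← hcore']; exact (Subgroup.normalCore_eq_ker T').symm
  have hidx : Nat.card (↥M₁ ⧸ T') = 3 := h31
  haveI : Finite (↥M₁ ⧸ T') := Nat.finite_of_card_ne_zero (by omega)
  have hperm : Nat.card (Equiv.Perm (↥M₁ ⧸ T')) = 6 := by rw [Nat.card_perm, hidx]; rfl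
  have h6 : Nat.card (↥M₁ ⧸ pCore 2 ↥M₁) = 2 * 3 := by
    have hd : (pCore 2 ↥M₁).index ∣ 6 := by
      rw [← hker, Subgroup.index_ker, ← hperm]
      exact Subgroup.card_subgroup_dvd_card _
    have h3 : 3 ∣ (pCore 2 ↥M₁).index := by
      have := Subgroup.index_dvd_of_le hQT
      rwa [show T'.index = 3 from h31] at this
    have hne : (pCore 2 ↥M₁).index ≠ 3 := by
      intro e
      have hmul := Subgroup.relIndex_mul_index hQT
      rw [show T'.index = 3 from h31, e] at hmul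
      have e1 : (pCore 2 ↥M₁).relIndex T' = 1 := by omega
      have e2 : T' = pCore 2 ↥M₁ := le_antisymm (Subgroup.relIndex_eq_one.mp e1) hQT
      haveI : T'.Normal := e2 ▸ inferInstance
      exact hnorm ((Subgroup.normal_subgroupOf_iff_le_normalizer hT1).mp ‹_›)
    have hle := Nat.le_of_dvd (by norm_num) hd
    obtain ⟨j, hj⟩ := h3
    show (pCore 2 ↥M₁).index = 2 * 3
    rcases Nat.eq_zero_or_pos j with rfl | hj0
    · simp at hj; rw [hj] at hd; norm_num at hd
    · omega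
  have hTne : T ≠ ⊥ := fun e => hnorm (by rw [e, Subgroup.normalizer_eq_top]; exact le_top)
  have hnc : ¬ M₁ ≤ Subgroup.centralizer (omegaZ T : Set X) := by
    intro hle
    have hle2 : M₂ ≤ Subgroup.centralizer (omegaZ T : Set X) := by
      intro x hx
      rw [← hgM, mem_cs] at hx
      refine Subgroup.mem_centralizer_iff.mpr fun z hz => ?_
      rw [SetLike.mem_coe, ← hgT, omegaZ_cs, mem_cs] at hz
      have h1 := Subgroup.mem_centralizer_iff.mp (hle hx) _ hz
      calc z * x = g * (g⁻¹ * z * g * (g⁻¹ * x * g)) * g⁻¹ := by simp [mul_assoc]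
        _ = g * (g⁻¹ * x * g * (g⁻¹ * z * g)) * g⁻¹ := by rw [h1]
        _ = x * z := by simp [mul_assoc]
    have hall : ∀ z ∈ omegaZ T, ∀ y : X, Commute y z := by
      intro z hz y
      have : y ∈ Subgroup.centralizer (omegaZ T : Set X) :=
        (hgen.symm.le.trans (sup_le hle hle2)) (Subgroup.mem_top y)
      exact (Subgroup.mem_centralizer_iff.mp this z hz).symm
    have hnormal : (omegaZ T).Normal := ⟨fun z hz y => by
      rwa [(hall z hz y).eq, mul_inv_cancel_right]⟩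
    have hbot := hcore _ (fun z hz => (mem_omegaZ.mp hz).1) hnormal
    haveI : Finite ↥T := Finite.of_injective (Subgroup.inclusion hT1) (Subgroup.inclusion_injective _)
    haveI : Nontrivial ↥T := (Subgroup.nontrivial_iff_ne_bot T).mpr hTne
    haveI := hTp.center_nontrivial
    obtain ⟨n, hn⟩ := (hTp.to_subgroup (Subgroup.center ↥T)).exists_card_eq
    have hd : 2 ∣ Nat.card ↥(Subgroup.center ↥T) := by
      rcases Nat.eq_zero_or_pos n with rfl | hn0
      · exact absurd hn (Finite.one_lt_card.ne')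
      · rw [hn]; exact dvd_pow_self 2 hn0.ne'
    obtain ⟨z, hz⟩ := exists_prime_orderOf_dvd_card' 2 hd
    have hzZ : ((z : ↥T) : X) ∈ omegaZ T := by
      refine mem_omegaZ.mpr ⟨(z : ↥T).2, ?_, fun s hs => ?_⟩
      · have := pow_orderOf_eq_one z
        rw [hz] at this
        exact congrArg (fun p : ↥(Subgroup.center ↥T) => ((p : ↥T) : X)) this
      · exact congrArg Subtype.val ((Subgroup.mem_center_iff.mp z.2 ⟨s, hs⟩).symm)
    rw [hbot, Subgroup.mem_bot] at hzZ
    rw [show z = 1 from Subtype.ext (Subtype.ext hzZ), orderOf_one] at hz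
    omega
  by_cases hchar : M₁ ⊓ Subgroup.centralizer (pCoreOf 2 M₁ : Set X) ≤ pCoreOf 2 M₁
  · obtain ⟨s1, -⟩ := side_of_sylow hT1 P1 hP1 Nat.prime_three (by norm_num) h6 hchar hnc
    have s2 : Side T M₂ := by
      have := s1.map g
      rwa [hgM, hgT] at this
    rcases Hyp.classify ⟨hgen, s1, s2, fun N hN hle => hcore N hle hN⟩ hc with ⟨h', -⟩ | ⟨⟨e⟩, -⟩
    · exact Or.inr (Or.inr (Or.inl h'))
    · exact Or.inr (Or.inr (Or.inr ⟨e.trans MulEquiv.prodComm⟩))
  -- the two cores meet trivially when one of them is not self-centralising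
  set Q₁ := pCoreOf 2 M₁ with hQ₁
  have hQ₁n : ∀ y ∈ M₁, ∀ q ∈ Q₁, y * q * y⁻¹ ∈ Q₁ := by
    rintro y hy _ ⟨q, hq, rfl⟩
    exact ⟨(⟨y, hy⟩ : ↥M₁) * q * (⟨y, hy⟩ : ↥M₁)⁻¹, (inferInstance : (pCore 2 ↥M₁).Normal).conj_mem q hq _, rfl⟩
  have hQ₁T : Q₁ ≤ T := by
    rintro _ ⟨q, hq, rfl⟩
    exact Subgroup.mem_subgroupOf.mp (hQT hq)
  set Q₂ := cs g Q₁ with hQ₂
  have hQ₂T : Q₂ ≤ T := hgT ▸ Subgroup.map_mono hQ₁T
  set K := M₁ ⊓ Subgroup.centralizer (Q₁ : Set X) with hK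
  have hKn : ∀ y ∈ M₁, ∀ k ∈ K, y * k * y⁻¹ ∈ K := by
    intro y hy k hk
    refine ⟨M₁.mul_mem (M₁.mul_mem hy hk.1) (M₁.inv_mem hy), Subgroup.mem_centralizer_iff.mpr fun q hq => ?_⟩
    have h1 := Subgroup.mem_centralizer_iff.mp hk.2 _ (hQ₁n _ (inv_mem hy) q hq)
    rw [inv_inv] at h1
    calc q * (y * k * y⁻¹) = y * (y⁻¹ * q * y * k) * y⁻¹ := by simp [mul_assoc]
      _ = y * (k * (y⁻¹ * q * y)) * y⁻¹ := by rw [h1]
      _ = y * k * y⁻¹ * q := by simp [mul_assoc]
  have hKT : T ⊔ K = M₁ := by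
    have hp := Subgroup.relIndex_mul_relIndex _ _ _ (le_sup_left : T ≤ T ⊔ K) (sup_le hT1 inf_le_left)
    have hpr : (T.relIndex (T ⊔ K) * (T ⊔ K).relIndex M₁).Prime := by rw [hp, h31]; exact Nat.prime_three
    rw [Nat.prime_mul_iff] at hpr
    rcases hpr with ⟨-, h'⟩ | ⟨-, h'⟩
    · exact le_antisymm (sup_le hT1 inf_le_left) (Subgroup.relIndex_eq_one.mp h')
    · exfalso
      refine hchar fun x hx => ?_
      have hxT : ∀ z ∈ K, z ∈ T := fun z hz => (Subgroup.relIndex_eq_one.mp h') (Subgroup.mem_sup_right hz)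
      have hle : K.subgroupOf M₁ ≤ pCore 2 ↥M₁ := le_sSup
        ⟨⟨fun z hz y => Subgroup.mem_subgroupOf.mpr (hKn y y.2 z (Subgroup.mem_subgroupOf.mp hz))⟩,
          (hpg M₁ hT1).to_le fun z hz => hxT _ (Subgroup.mem_subgroupOf.mp hz)⟩
      exact ⟨⟨x, hx.1⟩, hle (Subgroup.mem_subgroupOf.mpr hx), rfl⟩
  have hnB : ∀ N : Subgroup X, N ≤ Q₁ → (∀ y ∈ T, ∀ n ∈ N, y * n * y⁻¹ ∈ N) →
      M₁ ≤ Subgroup.normalizer (N : Set X) := fun N hN hy => by
    rw [← hKT]
    refine sup_le (le_normalizer_of_conj hy) (le_normalizer_of_conj fun k hk n hn => ?_)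
    rwa [← Subgroup.mem_centralizer_iff.mp hk.2 n (hN hn), mul_inv_cancel_right]
  have hQ₂n : ∀ y ∈ M₂, ∀ q ∈ Q₂, y * q * y⁻¹ ∈ Q₂ := by
    intro y hy q hq
    rw [← hgM, mem_cs] at hy
    rw [hQ₂, mem_cs] at hq ⊢
    have := hQ₁n _ hy _ hq
    simpa [mul_assoc] using this
  have hB : Q₁ ⊓ Q₂ = ⊥ := by
    have hTn : ∀ y ∈ T, ∀ n ∈ Q₁ ⊓ Q₂, y * n * y⁻¹ ∈ Q₁ ⊓ Q₂ := fun y hy n hn =>
      ⟨hQ₁n y (hT1 hy) n hn.1, hQ₂n y (hT2 hy) n hn.2⟩
    refine htop _ (inf_le_left.trans hQ₁T) (hnB _ inf_le_left hTn) (le_normalizer_of_conj fun y hy n hn => ?_)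
    -- transport by `g`
    have hy' : g⁻¹ * y * g ∈ M₁ := by rwa [← hgM, mem_cs] at hy
    let N := cs g⁻¹ (Q₁ ⊓ Q₂)
    have hmemN : ∀ z, z ∈ N ↔ g * z * g⁻¹ ∈ Q₁ ⊓ Q₂ := fun z => by rw [mem_cs, inv_inv]
    have hN1 : N ≤ Q₁ := fun z hz => by
      have := (Subgroup.mem_inf.mp ((hmemN z).mp hz)).2
      rw [hQ₂, mem_cs] at this
      simpa [mul_assoc] using this
    have hNT : ∀ y ∈ T, ∀ n ∈ N, y * n * y⁻¹ ∈ N := fun y hy n hn => by
      rw [hmemN] at hn ⊢
      have hgy : g * y * g⁻¹ ∈ T := by rw [← hgT]; exact conj_mem_cs hy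
      have := hTn _ hgy _ hn
      simpa [mul_assoc] using this
    have h1 := (Subgroup.mem_normalizer_iff.mp (hnB N hN1 hNT hy') (g⁻¹ * n * g)).mp (by
      rw [hmemN]; simpa [mul_assoc] using hn)
    rw [hmemN] at h1
    simpa [mul_assoc] using h1
  have hQ₁card : Nat.card ↥M₁ = 6 * Nat.card ↥Q₁ := by
    rw [Subgroup.card_eq_card_quotient_mul_card_subgroup (pCore 2 ↥M₁), h6]
    congr 1
    exact Nat.card_congr ((pCore 2 ↥M₁).equivMapOfInjective _ (Subgroup.subtype_injective M₁)).toEquiv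
  have hTcard : Nat.card ↥T = 2 * Nat.card ↥Q₁ := by
    have h1 := Subgroup.card_mul_index T'
    rw [show T'.index = 3 from h31, Nat.card_congr (Subgroup.subgroupOfEquivOfLe hT1).toEquiv, hQ₁card] at h1
    omega
  haveI : Finite ↥T := Finite.of_injective (Subgroup.inclusion hT1) (Subgroup.inclusion_injective _)
  haveI : Finite ↥Q₁ := Finite.of_injective (Subgroup.inclusion hQ₁T) (Subgroup.inclusion_injective _)
  have hQ₂card : Nat.card ↥Q₂ = Nat.card ↥Q₁ :=
    (Nat.card_congr (Q₁.equivMapOfInjective _ (MulAut.conj g).injective).toEquiv).symm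
  have hsmall : Nat.card ↥Q₁ ≤ 2 := by
    haveI : Finite ↥Q₂ := Finite.of_injective (Subgroup.inclusion hQ₂T) (Subgroup.inclusion_injective _)
    let F : ↥Q₁ × ↥Q₂ → ↥T := fun p => ⟨p.1 * p.2, mul_mem (hQ₁T p.1.2) (hQ₂T p.2.2)⟩
    have hF : Function.Injective F := by
      rintro ⟨a, c⟩ ⟨a', c'⟩ e
      have e' : (a : X) * c = a' * c' := congrArg Subtype.val e
      have h1 : (a' : X)⁻¹ * a = c' * (c : X)⁻¹ := by
        rw [eq_mul_inv_iff_mul_eq, mul_assoc, e', inv_mul_cancel_left]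
      have h2 : (a' : X)⁻¹ * a ∈ Q₁ ⊓ Q₂ :=
        Subgroup.mem_inf.mpr ⟨mul_mem (inv_mem a'.2) a.2, by rw [h1]; exact mul_mem c'.2 (inv_mem c.2)⟩
      rw [hB, Subgroup.mem_bot] at h2
      have ea : (a : X) = a' := (inv_mul_eq_one.mp h2).symm
      exact Prod.ext (Subtype.ext ea) (Subtype.ext (mul_left_cancel (ea ▸ e')))
    have := Nat.card_le_card_of_injective F hF
    rw [Nat.card_prod, hQ₂card, hTcard] at this
    exact Nat.le_of_mul_le_mul_right this Nat.card_pos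
  rcases Nat.lt_or_eq_of_le hsmall with hlt | heq
  · refine Or.inl ?_
    have h1 : Nat.card ↥Q₁ = 1 := by have := Nat.card_pos (α := ↥Q₁); omega
    have hbot : pCore 2 ↥M₁ = ⊥ :=
      (Subgroup.map_eq_bot_iff_of_injective _ (Subgroup.subtype_injective M₁)).mp
        (Subgroup.card_eq_one.mp h1)
    have hinj : Function.Injective φ := by rw [← MonoidHom.ker_eq_bot_iff, hker, hbot]
    have hbij : Function.Bijective φ := hinj.bijective_of_nat_card_le (by rw [hperm, hQ₁card, h1])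
    exact ⟨(MulEquiv.ofBijective φ hbij).trans
      (Equiv.permCongrHom (Nat.equivFinOfCardPos (by omega) |>.trans (finCongr hidx)))⟩
  refine Or.inr (Or.inl ?_)
  have hM12 : Nat.card ↥M₁ = 12 := by rw [hQ₁card, heq]
  obtain ⟨q, hq, hqne⟩ : ∃ q ∈ Q₁, q ≠ 1 := by
    by_contra! hall
    rw [Subgroup.card_eq_one.mpr (eq_bot_iff.mpr fun z hz => Subgroup.mem_bot.mpr (hall z hz))] at heq
    omega
  have hq2 : q * q = 1 := by
    have := pow_card_eq_one' (G := ↥Q₁) (x := ⟨q, hq⟩)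
    rw [heq] at this
    simpa [pow_two] using congrArg Subtype.val this
  have hqT : ∀ y ∈ M₁, Commute y q := by
    intro y hy
    have h2 := (Nat.card_eq_two_iff' (1 : ↥Q₁)).mp heq
    obtain ⟨w, -, hw⟩ := h2
    have e1 := hw ⟨_, hQ₁n y hy q hq⟩ (fun e => hqne (conj_eq_one_iff.mp (congrArg Subtype.val e)))
    have e2 := hw ⟨q, hq⟩ (fun e => hqne (congrArg Subtype.val e))
    exact commute_conj_iff.mpr (congrArg Subtype.val (e1.trans e2.symm))
  obtain ⟨t, htT, htQ⟩ : ∃ t ∈ Q₂, t ≠ 1 := by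
    by_contra! hall
    rw [← hQ₂card, Subgroup.card_eq_one.mpr (eq_bot_iff.mpr fun z hz => Subgroup.mem_bot.mpr (hall z hz))] at heq
    omega
  have ht2 : t * t = 1 := by
    have := pow_card_eq_one' (G := ↥Q₂) (x := ⟨t, htT⟩)
    rw [hQ₂card, heq] at this
    simpa [pow_two] using congrArg Subtype.val this
  have htM : t ∈ M₁ := hT1 (hQ₂T htT)
  have htnQ : t ∉ Q₁ := fun h' => htQ (by
    have : t ∈ Q₁ ⊓ Q₂ := ⟨h', htT⟩
    rwa [hB, Subgroup.mem_bot] at this)
  haveI : Fact (Nat.Prime 3) := ⟨Nat.prime_three⟩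
  obtain ⟨x, hx⟩ := exists_prime_orderOf_dvd_card' (G := ↥M₁) 3 (hM12 ▸ by norm_num)
  -- `t` inverts `x` modulo the core
  set ψ := QuotientGroup.mk' (pCore 2 ↥M₁)
  have hinv : φ (⟨t, htM⟩ * x * ⟨t, htM⟩ * x) = 1 := by
    have hφ : Function.Surjective φ := by
      rw [← MonoidHom.range_eq_top]
      refine Subgroup.eq_top_of_card_eq _ ?_
      rw [← Subgroup.index_ker, hker, hperm]
      exact h6
    have e2 : φ ⟨t, htM⟩ ^ 2 = 1 := by
      rw [← map_pow, show (⟨t, htM⟩ : ↥M₁) ^ 2 = 1 from Subtype.ext (by simpa [pow_two] using ht2), map_one]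
    have n2 : φ ⟨t, htM⟩ ≠ 1 := fun e => htnQ (by
      have : (⟨t, htM⟩ : ↥M₁) ∈ φ.ker := e
      rw [hker] at this
      exact ⟨_, this, rfl⟩)
    have e3 : φ x ^ 3 = 1 := by rw [← map_pow, ← hx, pow_orderOf_eq_one, map_one]
    let eq3 : Equiv.Perm (↥M₁ ⧸ T') ≃* Equiv.Perm (Fin 3) :=
      Equiv.permCongrHom (Nat.equivFinOfCardPos (by omega) |>.trans (finCongr hidx))
    have key : ∀ a c : Equiv.Perm (Fin 3), a ^ 2 = 1 → a ≠ 1 → c ^ 3 = 1 → a * c * a * c = 1 := by decide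
    apply eq3.injective
    rw [map_one, map_mul, map_mul, map_mul, map_mul, map_mul, map_mul]
    exact key _ _ (by rw [← map_pow, e2, map_one]) (by simpa using n2) (by rw [← map_pow, e3, map_one])
  have hinv' : t * (x : X) * t * x ∈ Q₁ := by
    have : (⟨t, htM⟩ : ↥M₁) * x * ⟨t, htM⟩ * x ∈ φ.ker := hinv
    rw [hker] at this
    exact ⟨_, this, rfl⟩
  have hx3 : (x : X) * x * x = 1 := by
    have h1 := pow_orderOf_eq_one x
    rw [hx] at h1
    simpa [pow_succ] using congrArg Subtype.val h1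
  have htx : t * (x : X) * t * x = 1 := by
    set p := t * (x : X) * t * x with hp
    have hcx : Commute (x : X) p := by
      have h2 := (Nat.card_eq_two_iff' (1 : ↥Q₁)).mp heq
      obtain ⟨w, -, hw⟩ := h2
      by_cases hp1 : p = 1
      · rw [hp1]; exact Commute.one_right _
      · have e1 := hw ⟨p, hinv'⟩ (fun e => hp1 (congrArg Subtype.val e))
        have e2 := hw ⟨q, hq⟩ (fun e => hqne (congrArg Subtype.val e))
        rw [show p = q from congrArg Subtype.val (e1.trans e2.symm)]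
        exact hqT _ x.2
    have hp2 : p * p = 1 := by
      have := pow_card_eq_one' (G := ↥Q₁) (x := ⟨p, hinv'⟩)
      rw [heq] at this
      simpa [pow_two] using congrArg Subtype.val this
    have hy : t * (x : X) * t = p * (x * x) := by
      rw [hp, mul_assoc (t * (x : X) * t) x, ← mul_assoc (x : X) x x, hx3, mul_one]
    have h3 : t * (x : X) * t * (t * x * t) * (t * x * t) = 1 := by
      calc t * (x : X) * t * (t * x * t) * (t * x * t)
          = t * x * (t * t) * x * (t * t) * x * t := by simp only [mul_assoc]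
        _ = t * (x * x * x) * t := by rw [ht2]; simp only [mul_one, mul_assoc]
        _ = 1 := by rw [hx3, mul_one, ht2]
    rw [hy] at h3
    have hc2 : Commute p ((x : X) * x) := (hcx.symm).mul_right hcx.symm
    have h4 : (p * ((x : X) * x)) ^ 3 = p ^ 3 * ((x : X) * x) ^ 3 := hc2.mul_pow 3
    rw [show ((x : X) * x) ^ 3 = 1 by
      rw [pow_succ, pow_two]
      calc (x : X) * x * (x * x) * (x * x) = x * x * x * (x * x * x) := by simp only [mul_assoc]
        _ = 1 := by rw [hx3, one_mul], mul_one, pow_succ, pow_two, pow_succ, pow_two, h3,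
      hp2, one_mul] at h4
    exact h4.symm
  -- two involutions generating the group
  set r := (x : X) * q with hr
  have hrM : r ∈ M₁ := mul_mem x.2 (hT1 (hQ₁T hq))
  have htr : (t * r) * (t * r) = 1 := by
    have c1 : Commute t q := hqT t htM
    have c2 : Commute (x : X) q := hqT _ x.2
    calc t * r * (t * r) = t * x * (q * t) * (x * q) := by rw [hr]; simp only [mul_assoc]
      _ = t * x * t * (q * x) * q := by rw [← c1.eq]; simp only [mul_assoc]
      _ = t * x * t * x * (q * q) := by rw [← c2.eq]; simp only [mul_assoc]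
      _ = 1 := by rw [htx, hq2, one_mul]
  set a : ↥M₁ := ⟨t, htM⟩ with ha
  set c : ↥M₁ := ⟨t * r, mul_mem htM hrM⟩ with hc
  have hr3 : r * r * r = q := by
    have c2 : Commute (x : X) q := hqT _ x.2
    have h := c2.mul_pow 3
    rw [pow_succ, pow_two, pow_succ, pow_two, pow_succ, pow_two] at h
    rw [hr, h, hx3, hq2, one_mul, one_mul]
  have ho : orderOf (a * c) = 6 := by
    rw [← Subgroup.orderOf_coe]
    show orderOf (t * (t * r)) = 6
    rw [← mul_assoc, ht2, one_mul, hr, (hqT _ x.2).orderOf_mul_eq_mul_orderOf_of_coprime]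
    · rw [Subgroup.orderOf_coe, hx, orderOf_eq_prime (by rw [pow_two]; exact hq2) hqne]
    · rw [Subgroup.orderOf_coe, hx, orderOf_eq_prime (by rw [pow_two]; exact hq2) hqne]; norm_num
  have hoa : orderOf a = 2 := orderOf_eq_prime (Subtype.ext (by simpa [pow_two] using ht2))
    (fun e => htQ (congrArg Subtype.val e))
  have hne : a ≠ c := fun e => by
    have h1 : a * c = 1 := by rw [← e]; exact Subtype.ext ht2
    rw [h1, orderOf_one] at ho
    omega
  have hoc : orderOf c = 2 := orderOf_eq_prime (Subtype.ext (by simpa [pow_two] using htr)) fun e => by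
    rw [e, mul_one, hoa] at ho
    omega
  obtain ⟨iso⟩ := Cfsg.Lib.InvolCalc.exists_dihedral_equiv hoa hoc hne
  rw [ho] at iso
  have htop' : Subgroup.closure ({a, c} : Set ↥M₁) = ⊤ := by
    refine Subgroup.eq_top_of_card_eq _ ?_
    rw [Nat.card_congr iso.toEquiv, DihedralGroup.nat_card, hM12]
  exact ⟨Subgroup.topEquiv.symm.trans ((MulEquiv.subgroupCongr htop'.symm).trans iso)⟩

end Cfsg.Lib.Goldschmidt
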